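import Mathlib
import Groth.Prelude.Def_Wider

/-!
Regular sequences in Noetherian local rings: exchange and systems of parameters.
-/

namespace Groth.Agent.CMSop

universe u

open IsLocalRing Pointwise

variable {R : Type u} [CommRing R]

/-- `HasRegSeq k M`: there is an `M`-regular sequence of length `k` in the maximal ideal. -/
def HasRegSeq [IsLocalRing R] : ℕ → ∀ (M : Type u) [AddCommGroup M] [Module R M], Prop
  | 0, _, _, _ => True
  | k + 1, M, _, _ => ∃ x ∈ maximalIdeal R, IsSMulRegular M x ∧ HasRegSeq k (QuotSMulTop x M)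

section Local

variable [IsLocalRing R]

theorem hasRegSeq_of_linearEquiv (k : ℕ) : ∀ {M N : Type u} [AddCommGroup M] [Module R M]
    [AddCommGroup N] [Module R N], (M ≃ₗ[R] N) → HasRegSeq (R := R) k M →
      HasRegSeq (R := R) k N := by
  induction k with
  | zero => intros; trivial
  | succ k ih =>
    rintro M N _ _ _ _ e ⟨x, hx, hreg, h⟩
    refine ⟨x, hx, (LinearEquiv.isSMulRegular_congr e x).1 hreg, ih ?_ h⟩
    refine Submodule.Quotient.equiv _ _ e ?_
    rw [Submodule.map_pointwise_smul, Submodule.map_top, LinearEquiv.range]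

theorem hasRegSeq_of_succ (k : ℕ) : ∀ {M : Type u} [AddCommGroup M] [Module R M],
    HasRegSeq (R := R) (k + 1) M → HasRegSeq (R := R) k M := by
  induction k with
  | zero => intros; trivial
  | succ k ih => rintro M _ _ ⟨x, hx, hreg, h⟩; exact ⟨x, hx, hreg, ih h⟩

theorem hasRegSeq_of_le {k l : ℕ} (hkl : k ≤ l) {M : Type u} [AddCommGroup M] [Module R M]
    (h : HasRegSeq (R := R) l M) : HasRegSeq (R := R) k M := by
  induction hkl with
  | refl => exact h
  | step _ ih => exact ih (hasRegSeq_of_succ _ h)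

theorem hasRegSeq_of_isWeaklyRegular (rs : List R) : ∀ (M : Type u) [AddCommGroup M] [Module R M],
    RingTheory.Sequence.IsWeaklyRegular M rs → (∀ r ∈ rs, r ∈ maximalIdeal R) →
      HasRegSeq (R := R) rs.length M := by
  induction rs with
  | nil => intros; trivial
  | cons r rs ih =>
    intro M _ _ h hm
    rw [RingTheory.Sequence.isWeaklyRegular_cons_iff] at h
    exact ⟨r, hm r List.mem_cons_self, h.1,
      ih _ h.2 fun s hs => hm s (List.mem_cons_of_mem _ hs)⟩

end Local

/-- `(M ⧸ x M) ⧸ z (M ⧸ x M) = M ⧸ (x M + z M)`, symmetrically. -/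
noncomputable def quotSwap (M : Type u) [AddCommGroup M] [Module R M] (x z : R) :
    QuotSMulTop z (QuotSMulTop x M) ≃ₗ[R] QuotSMulTop x (QuotSMulTop z M) :=
  have h : ∀ a b : R, (b • (⊤ : Submodule R (M ⧸ a • (⊤ : Submodule R M)))) =
      (b • (⊤ : Submodule R M)).map (a • (⊤ : Submodule R M)).mkQ := fun a b => by
    rw [Submodule.map_pointwise_smul, Submodule.map_top, Submodule.range_mkQ]
  (Submodule.quotEquivOfEq _ _ (h x z)).trans <|
    (Submodule.quotientQuotientEquivQuotientSup _ _).trans <|
      (Submodule.quotEquivOfEq _ _ (sup_comm _ _)).trans <|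
        (Submodule.quotientQuotientEquivQuotientSup _ _).symm.trans
          (Submodule.quotEquivOfEq _ _ (h z x).symm)

theorem isSMulRegular_swap {M : Type u} [AddCommGroup M] [Module R M] {x z : R}
    (hx : IsSMulRegular M x) (hz : IsSMulRegular (QuotSMulTop x M) z) :
    IsSMulRegular (QuotSMulTop z M) x := by
  refine isSMulRegular_iff_right_eq_zero_of_smul.2 fun q hq => ?_
  obtain ⟨y, rfl⟩ := Submodule.Quotient.mk_surjective _ q
  rw [← Submodule.Quotient.mk_smul, Submodule.Quotient.mk_eq_zero,
    Submodule.mem_smul_pointwise_iff_exists] at hq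
  obtain ⟨w, -, hw⟩ := hq
  have h1 : z • (Submodule.Quotient.mk w : QuotSMulTop x M) = 0 := by
    rw [← Submodule.Quotient.mk_smul, hw, Submodule.Quotient.mk_eq_zero,
      Submodule.mem_smul_pointwise_iff_exists]
    exact ⟨y, Submodule.mem_top, rfl⟩
  have h2 := hz.right_eq_zero_of_smul h1
  rw [Submodule.Quotient.mk_eq_zero, Submodule.mem_smul_pointwise_iff_exists] at h2
  obtain ⟨v, -, rfl⟩ := h2
  have h3 : x • (z • v) = x • y := by rw [smul_comm, hw]
  rw [← hx h3, Submodule.Quotient.mk_eq_zero, Submodule.mem_smul_pointwise_iff_exists]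
  exact ⟨v, Submodule.mem_top, rfl⟩

section Noetherian

variable [IsNoetherianRing R] [IsLocalRing R]

omit [IsLocalRing R] in
/-- An element of an ideal outside every associated prime is regular. -/
theorem isSMulRegular_of_forall {M : Type u} [AddCommGroup M] [Module R M] {x : R}
    (h : ∀ p ∈ associatedPrimes R M, x ∉ p) : IsSMulRegular M x := by
  refine isSMulRegular_iff_right_eq_zero_of_smul.2 fun y hy => ?_
  by_contra hy0
  obtain ⟨P, hP, hle⟩ := exists_le_isAssociatedPrime_of_isNoetherianRing R y hy0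
  exact h P (AssociatedPrimes.mem_iff.2 hP) (hle (by
    rw [Submodule.mem_colon_singleton, Submodule.mem_bot]; exact hy))

/-- If there is a regular element, the maximal ideal is not associated. -/
theorem maximalIdeal_notMem_associatedPrimes {M : Type u} [AddCommGroup M] [Module R M] {x : R}
    (hx : x ∈ maximalIdeal R) (hreg : IsSMulRegular M x) :
    maximalIdeal R ∉ associatedPrimes R M := by
  intro h
  obtain ⟨-, y, hy⟩ := isAssociatedPrime_iff.1 (AssociatedPrimes.mem_iff.1 h)
  have h1 : x • y = 0 := by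
    rw [hy, Submodule.mem_colon_singleton, Submodule.mem_bot] at hx
    exact hx
  have h2 := hreg.right_eq_zero_of_smul h1
  apply (maximalIdeal.isMaximal R).ne_top
  rw [hy, h2, Ideal.eq_top_iff_one, Submodule.mem_colon_singleton, smul_zero]
  exact zero_mem _

/-- Exchange: depth zero of the quotient by a regular element does not depend on the element. -/
theorem maximalIdeal_mem_associatedPrimes_swap {M : Type u} [AddCommGroup M] [Module R M] {x y : R}
    (hym : y ∈ maximalIdeal R) (hxm : x ∈ maximalIdeal R)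
    (hx : IsSMulRegular M x) (hy : IsSMulRegular M y)
    (h : maximalIdeal R ∈ associatedPrimes R (QuotSMulTop x M)) :
    maximalIdeal R ∈ associatedPrimes R (QuotSMulTop y M) := by
  obtain ⟨-, q, hq⟩ := isAssociatedPrime_iff.1 (AssociatedPrimes.mem_iff.1 h)
  obtain ⟨z, rfl⟩ := Submodule.Quotient.mk_surjective _ q
  have hmem : ∀ {a b : R} {v : M}, a • (Submodule.Quotient.mk v : QuotSMulTop b M) = 0 ↔
      ∃ w, b • w = a • v := by
    intro a b v
    rw [← Submodule.Quotient.mk_smul, Submodule.Quotient.mk_eq_zero,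
      Submodule.mem_smul_pointwise_iff_exists]
    exact ⟨fun ⟨w, _, hw⟩ => ⟨w, hw⟩, fun ⟨w, hw⟩ => ⟨w, Submodule.mem_top, hw⟩⟩
  have hkill : ∀ c ∈ maximalIdeal R, ∃ w, x • w = c • z := fun c hc => by
    rw [hq, Submodule.mem_colon_singleton, Submodule.mem_bot] at hc
    exact hmem.1 hc
  obtain ⟨w0, hw0⟩ := hkill y hym
  refine AssociatedPrimes.mem_iff.2 (isAssociatedPrime_iff.2
    ⟨(maximalIdeal.isMaximal R).isPrime, Submodule.Quotient.mk w0, ?_⟩)
  have hle : maximalIdeal R ≤
      (⊥ : Submodule R (QuotSMulTop y M)).colon {Submodule.Quotient.mk w0} := by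
    intro c hc
    rw [Submodule.mem_colon_singleton, Submodule.mem_bot, hmem]
    obtain ⟨w, hw⟩ := hkill c hc
    refine ⟨w, hx ?_⟩
    show x • (y • w) = x • (c • w0)
    rw [smul_comm x y, hw, smul_comm x c, hw0, smul_comm]
  refine (maximalIdeal.isMaximal R).eq_of_le (fun htop => ?_) hle
  rw [Ideal.eq_top_iff_one, Submodule.mem_colon_singleton, Submodule.mem_bot, hmem] at htop
  obtain ⟨v, hv⟩ := htop
  rw [one_smul] at hv
  have hzv : z = x • v := hy (by
    show y • z = y • (x • v)
    rw [← hw0, ← hv, smul_comm])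
  apply (maximalIdeal.isMaximal R).ne_top
  rw [hq, Ideal.eq_top_iff_one, Submodule.mem_colon_singleton, Submodule.mem_bot, hmem]
  exact ⟨v, by rw [one_smul, hzv]⟩

omit [IsNoetherianRing R] in
theorem exists_notMem_of_finite {s : Set (Ideal R)} (hs : s.Finite)
    (hp : ∀ p ∈ s, p.IsPrime ∧ p ≠ maximalIdeal R) : ∃ z ∈ maximalIdeal R, ∀ p ∈ s, z ∉ p := by
  by_contra hcon
  push Not at hcon
  have hsub : (maximalIdeal R : Set R) ⊆ ⋃ i ∈ (↑hs.toFinset : Set (Ideal R)), (i : Set R) := by
    intro z hz
    obtain ⟨p, hp, hzp⟩ := hcon z hz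
    exact Set.mem_iUnion₂.2 ⟨p, by simpa using hp, hzp⟩
  obtain ⟨p, hps, hle⟩ := (Ideal.subset_union_prime (f := fun p : Ideal R => p) ⊥ ⊥
    (fun i hi _ _ => (hp i (by simpa using hi)).1)).1 hsub
  obtain ⟨hprime, hne⟩ := hp p (by simpa using hps)
  exact hne ((maximalIdeal.isMaximal R).eq_of_le hprime.ne_top hle).symm

/-- Quotients by any regular element lose exactly one from the length of regular sequences. -/
theorem hasRegSeq_quot (k : ℕ) : ∀ {M : Type u} [AddCommGroup M] [Module R M],
    Module.Finite R M → HasRegSeq (R := R) (k + 1) M → ∀ y ∈ maximalIdeal R,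
      IsSMulRegular M y → HasRegSeq (R := R) k (QuotSMulTop y M) := by
  induction k with
  | zero => intros; trivial
  | succ k ih =>
    intro M _ _ hfin hM y hy hyreg
    obtain ⟨x, hx, hxreg, hMx⟩ := hM
    obtain ⟨x', hx', hx'reg, hMx'⟩ := id hMx
    have hmy : maximalIdeal R ∉ associatedPrimes R (QuotSMulTop y M) := fun h =>
      maximalIdeal_notMem_associatedPrimes hx' hx'reg
        (maximalIdeal_mem_associatedPrimes_swap hx hy hyreg hxreg h)
    obtain ⟨z, hz, hzp⟩ := exists_notMem_of_finite
      (s := associatedPrimes R M ∪ associatedPrimes R (QuotSMulTop x M) ∪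
        associatedPrimes R (QuotSMulTop y M))
      (((associatedPrimes.finite R M).union (associatedPrimes.finite R _)).union
        (associatedPrimes.finite R _))
      (by
        rintro p ((hp | hp) | hp) <;> refine ⟨IsAssociatedPrime.isPrime hp, fun h => ?_⟩
        · exact maximalIdeal_notMem_associatedPrimes hx hxreg (h ▸ hp)
        · exact maximalIdeal_notMem_associatedPrimes hx' hx'reg (h ▸ hp)
        · exact hmy (h ▸ hp))
    have hzM : IsSMulRegular M z :=
      isSMulRegular_of_forall fun p hp => hzp p (Or.inl (Or.inl hp))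
    have hzx : IsSMulRegular (QuotSMulTop x M) z :=
      isSMulRegular_of_forall fun p hp => hzp p (Or.inl (Or.inr hp))
    have hzy : IsSMulRegular (QuotSMulTop y M) z :=
      isSMulRegular_of_forall fun p hp => hzp p (Or.inr hp)
    have h1 := hasRegSeq_of_linearEquiv k (quotSwap M x z) (ih inferInstance hMx z hz hzx)
    have h2 : HasRegSeq (R := R) (k + 1) (QuotSMulTop z M) :=
      ⟨x, hx, isSMulRegular_swap hxreg hzx, h1⟩
    have h3 := hasRegSeq_of_linearEquiv k (quotSwap M z y)
      (ih inferInstance h2 y hy (isSMulRegular_swap hyreg hzy))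
    exact ⟨z, hz, hzy, h3⟩

/-- The dimension at an associated prime bounds the length of regular sequences. -/
theorem le_ringKrullDim_quotient_of_hasRegSeq (k : ℕ) : ∀ {M : Type u} [AddCommGroup M] [Module R M],
    Module.Finite R M → HasRegSeq (R := R) k M → ∀ p ∈ associatedPrimes R M,
      (k : WithBot ℕ∞) ≤ ringKrullDim (R ⧸ p) := by
  induction k with
  | zero =>
    intro M _ _ _ _ p hp
    have : Nontrivial (R ⧸ p) :=
      Ideal.Quotient.nontrivial_iff.2 (IsAssociatedPrime.isPrime hp).ne_top
    exact_mod_cast ringKrullDim_nonneg_of_nontrivial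
  | succ k ih =>
    rintro M _ _ _ ⟨x, hx, hreg, h⟩ p hp
    obtain ⟨hpp, y, hy⟩ := isAssociatedPrime_iff.1 (AssociatedPrimes.mem_iff.1 hp)
    let N : Submodule R M := Submodule.torsionBySet R M (p : Set R)
    have hkey : ∀ b ∈ p, b • y = 0 := fun b hb => by
      rwa [hy, Submodule.mem_colon_singleton, Submodule.mem_bot] at hb
    have hyN : y ∈ N := (Submodule.mem_torsionBySet_iff _ _).2 fun a => hkey a a.2
    have hxp : x ∉ p := fun hxp => by
      have h0 : y = 0 :=
        hreg.right_eq_zero_of_smul ((Submodule.mem_torsionBySet_iff _ _).1 hyN ⟨x, hxp⟩)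
      apply hpp.ne_top
      rw [hy, h0, Ideal.eq_top_iff_one, Submodule.mem_colon_singleton, smul_zero]
      exact zero_mem _
    have hNx : ¬ N ≤ x • (⊤ : Submodule R M) := by
      intro hle
      have hN : N ≤ Ideal.span {x} • N := by
        intro z hz
        obtain ⟨w, -, rfl⟩ := (Submodule.mem_smul_pointwise_iff_exists _ _ _).1 (hle hz)
        refine Submodule.smul_mem_smul (Ideal.mem_span_singleton_self x)
          ((Submodule.mem_torsionBySet_iff _ _).2 fun a => hreg ?_)
        show x • ((a : R) • w) = x • 0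
        rw [smul_zero, smul_comm]
        exact (Submodule.mem_torsionBySet_iff _ _).1 hz a
      have hbot : N = ⊥ := Submodule.eq_bot_of_le_smul_of_le_jacobson_bot _ N
        (IsNoetherian.noetherian N) hN
        (((Ideal.span_singleton_le_iff_mem _).2 hx).trans (IsLocalRing.maximalIdeal_le_jacobson _))
      have h0 : y = 0 := by rwa [hbot, Submodule.mem_bot] at hyN
      apply hpp.ne_top
      rw [hy, h0, Ideal.eq_top_iff_one, Submodule.mem_colon_singleton, smul_zero]
      exact zero_mem _
    obtain ⟨z, hzN, hzx⟩ := SetLike.not_le_iff_exists.1 hNx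
    have hz0 : (Submodule.Quotient.mk z : QuotSMulTop x M) ≠ 0 := fun h =>
      hzx ((Submodule.Quotient.mk_eq_zero _).1 h)
    obtain ⟨q, hq, hle⟩ := exists_le_isAssociatedPrime_of_isNoetherianRing R _ hz0
    have hpq : p ≤ q := fun a ha => hle (by
      rw [Submodule.mem_colon_singleton, Submodule.mem_bot, ← Submodule.Quotient.mk_smul,
        (Submodule.mem_torsionBySet_iff _ _).1 hzN ⟨a, ha⟩, Submodule.Quotient.mk_zero])
    have hxq : x ∈ q := hle (by
      rw [Submodule.mem_colon_singleton, Submodule.mem_bot, ← Submodule.Quotient.mk_smul,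
        Submodule.Quotient.mk_eq_zero]
      exact Submodule.smul_mem_pointwise_smul z x ⊤ Submodule.mem_top)
    refine le_trans ?_ (le_trans (add_le_add (ih inferInstance h q (AssociatedPrimes.mem_iff.2 hq))
      (le_refl (1 : WithBot ℕ∞))) ?_)
    · simp
    let f : (R ⧸ p) →+* R ⧸ q := Ideal.Quotient.factor hpq
    have : Nontrivial (R ⧸ p) := Ideal.Quotient.nontrivial_iff.2 hpp.ne_top
    have hxbar : Ideal.Quotient.mk p x ∈ nonZeroDivisors (R ⧸ p) :=
      mem_nonZeroDivisors_of_ne_zero fun h => hxp (Ideal.Quotient.eq_zero_iff_mem.1 h)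
    refine le_trans (add_le_add ?_ le_rfl) (ringKrullDim_quotient_succ_le_of_nonZeroDivisor hxbar)
    let g : ((R ⧸ p) ⧸ Ideal.span {Ideal.Quotient.mk p x}) →+* R ⧸ q :=
      Ideal.Quotient.lift _ f fun a ha => by
        obtain ⟨b, rfl⟩ := Ideal.mem_span_singleton'.1 ha
        rw [map_mul]
        show f b * Ideal.Quotient.mk q x = 0
        rw [Ideal.Quotient.eq_zero_iff_mem.2 hxq, mul_zero]
    refine ringKrullDim_le_of_surjective g fun a => ?_
    obtain ⟨a, rfl⟩ := Ideal.Quotient.mk_surjective a
    exact ⟨Ideal.Quotient.mk _ (Ideal.Quotient.mk p a), rfl⟩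

end Noetherian

end Groth.Agent.CMSop
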