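import Mathlib
import Groth.Prelude.Def_Wider
import Groth.Agent.CMSop.Depth
import Groth.Agent.SopLength.Basic

/-!
Systems of parameters of Cohen–Macaulay local rings.
-/

namespace Groth.Agent.CMSop

universe u

open IsLocalRing Pointwise

variable {R : Type u} [CommRing R]

/-- The ideal generated by a family with one index left out. -/
def omitSpan {n : ℕ} (a : Fin n → R) (i : Fin n) : Ideal R := Ideal.span (a '' {j | j ≠ i})

/-- A family of elements whose radical is the maximal ideal. -/
def IsSop [IsLocalRing R] {n : ℕ} (a : Fin n → R) : Prop :=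
  (Ideal.span (Set.range a)).radical = maximalIdeal R

theorem mem_omitSpan {n : ℕ} (a : Fin n → R) {i j : Fin n} (h : j ≠ i) : a j ∈ omitSpan a i :=
  Ideal.subset_span ⟨j, h, rfl⟩

theorem omitSpan_sup {n : ℕ} (a : Fin n → R) (i : Fin n) :
    omitSpan a i ⊔ Ideal.span {a i} = Ideal.span (Set.range a) := by
  rw [omitSpan, ← Ideal.span_union, ← Set.image_singleton, ← Set.image_union, ← Set.image_univ]
  congr 2
  ext j
  simp only [Set.mem_union, Set.mem_ofPred_eq, Set.mem_singleton_iff, Set.mem_univ, iff_true]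
  exact (em (j = i)).symm

theorem omitSpan_congr {n : ℕ} {a b : Fin n → R} {i : Fin n} (h : ∀ j ≠ i, a j = b j) :
    omitSpan a i = omitSpan b i := by
  rw [omitSpan, omitSpan]
  congr 1
  exact Set.image_congr fun j hj => h j hj

section Local

variable [IsLocalRing R] {n : ℕ} {a : Fin n → R}

theorem IsSop.mem (h : IsSop a) (i : Fin n) : a i ∈ maximalIdeal R :=
  h ▸ Ideal.le_radical (Ideal.subset_span ⟨i, rfl⟩)

theorem IsSop.span_le (h : IsSop a) : Ideal.span (Set.range a) ≤ maximalIdeal R :=
  h ▸ Ideal.le_radical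

/-- A family in the maximal ideal which generates the same radical is a system of parameters. -/
theorem isSop_of_le_radical {b : Fin n → R} (h : IsSop a) (hb : ∀ i, b i ∈ maximalIdeal R)
    (hle : ∀ i, a i ∈ (Ideal.span (Set.range b)).radical) : IsSop b := by
  refine le_antisymm ((Ideal.IsPrime.radical_le_iff (maximalIdeal.isMaximal R).isPrime).2
    (Ideal.span_le.2 (by rintro _ ⟨i, rfl⟩; exact hb i))) ?_
  rw [← show (Ideal.span (Set.range a)).radical = maximalIdeal R from h]
  refine (Ideal.radical_mono (Ideal.span_le.2 ?_)).trans (Ideal.radical_idem _).le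
  rintro _ ⟨i, rfl⟩
  exact hle i

theorem IsSop.pow (h : IsSop a) {e : Fin n → ℕ} (he : ∀ i, 0 < e i) :
    IsSop (fun i => a i ^ e i) :=
  isSop_of_le_radical h (fun i => Ideal.pow_mem_of_mem _ (h.mem i) _ (he i))
    fun i => ⟨e i, Ideal.subset_span ⟨i, rfl⟩⟩

theorem ringKrullDim_quotient_le_card [IsNoetherianRing R] (p : Ideal R) (hp : p ≠ ⊤) (S : Finset R)
    (hS : maximalIdeal R ≤ (p ⊔ Ideal.span (S : Set R)).radical)
    (hSm : (S : Set R) ⊆ maximalIdeal R) :
    ringKrullDim (R ⧸ p) ≤ S.card := by
  classical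
  have : Nontrivial (R ⧸ p) := Ideal.Quotient.nontrivial_iff.2 hp
  have : IsLocalRing (R ⧸ p) :=
    IsLocalRing.of_surjective' (Ideal.Quotient.mk p) Ideal.Quotient.mk_surjective
  let q := Ideal.Quotient.mk p
  have hmap : (maximalIdeal R).map q = maximalIdeal (R ⧸ p) :=
    IsLocalRing.eq_maximalIdeal (Groth.Agent.SopLength.isMaximal_map_maximalIdeal
      (IsLocalRing.le_maximalIdeal hp))
  have hsub : ((S.image q : Finset (R ⧸ p)) : Set (R ⧸ p)) ⊆ maximalIdeal (R ⧸ p) := by
    rw [Finset.coe_image]
    rintro _ ⟨x, hx, rfl⟩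
    exact hmap ▸ Ideal.mem_map_of_mem q (hSm hx)
  refine le_trans (ringKrullDim_le_ringKrullDim_quotient_add_card (s := S.image q) ?_) ?_
  · rw [IsLocalRing.ringJacobson_eq_maximalIdeal]
    exact hsub
  have h0 : ringKrullDim ((R ⧸ p) ⧸ Ideal.span ((S.image q : Finset (R ⧸ p)) : Set (R ⧸ p))) ≤ 0 := by
    have hk : Ring.KrullDimLE 0 ((R ⧸ p) ⧸ Ideal.span ((S.image q : Finset (R ⧸ p)) : Set (R ⧸ p))) := by
      rw [Ring.krullDimLE_zero_iff]
      intro P hP
      let Q := P.comap (Ideal.Quotient.mk _) |>.comap q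
      have hQ : p ⊔ Ideal.span (S : Set R) ≤ Q := by
        refine sup_le (fun x hx => ?_) (Ideal.span_le.2 fun x hx => ?_)
        · show Ideal.Quotient.mk _ (q x) ∈ P
          rw [show q x = 0 from Ideal.Quotient.eq_zero_iff_mem.2 hx, map_zero]
          exact zero_mem _
        · show Ideal.Quotient.mk _ (q x) ∈ P
          rw [Ideal.Quotient.eq_zero_iff_mem.2 (Ideal.subset_span (Finset.mem_coe.2 (Finset.mem_image_of_mem q hx)))]
          exact zero_mem _
      have hQp : Q.IsPrime := inferInstance
      have hmQ : Q = maximalIdeal R :=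
        le_antisymm (IsLocalRing.le_maximalIdeal hQp.ne_top) (hS.trans (hQp.radical_le_iff.2 hQ))
      have h2 : P.comap (Ideal.Quotient.mk _) = maximalIdeal (R ⧸ p) := by
        rw [← Ideal.map_comap_of_surjective q Ideal.Quotient.mk_surjective (P.comap _)]
        show Q.map q = _
        rw [hmQ, hmap]
      rw [← Ideal.map_comap_of_surjective _ Ideal.Quotient.mk_surjective P, h2]
      exact Groth.Agent.SopLength.isMaximal_map_maximalIdeal (Ideal.span_le.2 hsub)
    exact Ring.krullDimLE_iff.1 hk
  calc _ ≤ 0 + ((S.image q).card : WithBot ℕ∞) := add_le_add h0 le_rfl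
    _ ≤ _ := by rw [zero_add]; exact_mod_cast Finset.card_image_le

/-- Primes containing all but one parameter, and minimal over them, are not maximal. -/
theorem IsSop.ne_maximalIdeal_of_mem_minimalPrimes [IsNoetherianRing R] (h : IsSop a)
    (hdim : ringKrullDim R = n) (i : Fin n) {q : Ideal R} (hq : q ∈ (omitSpan a i).minimalPrimes) :
    q ≠ maximalIdeal R := by
  classical
  intro hqm
  have hall : maximalIdeal R ≤ (omitSpan a i).radical := by
    rw [Ideal.radical_eq_sInf]
    refine le_sInf fun P hP => ?_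
    have hPp : P.IsPrime := hP.2
    obtain ⟨r, hr, hrP⟩ := Ideal.exists_minimalPrimes_le hP.1
    have : r ≤ q := hqm ▸ IsLocalRing.le_maximalIdeal hr.1.1.ne_top
    have hrq : r = q := le_antisymm this (hq.2 hr.1 this)
    exact hqm ▸ hrq ▸ hrP
  let S : Finset R := (Finset.univ.erase i).image a
  have hS : (S : Set R) = a '' {j | j ≠ i} := by
    ext x; simp [S]
  have h1 := ringKrullDim_quotient_le_card (⊥ : Ideal R) bot_ne_top S
    (by rw [bot_sup_eq, hS]; exact hall) (by rw [hS]; rintro _ ⟨j, -, rfl⟩; exact h.mem j)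
  rw [ringKrullDim_eq_of_ringEquiv (RingEquiv.quotientBot R), hdim] at h1
  have h2 : S.card < n := lt_of_le_of_lt Finset.card_image_le (by
    rw [Finset.card_erase_of_mem (Finset.mem_univ i), Finset.card_univ, Fintype.card_fin]
    exact Nat.sub_lt (Fin.pos i) Nat.one_pos)
  norm_cast at h1
  omega

end Local

section CohenMacaulay

variable [IsNoetherianRing R] [IsLocalRing R] {n : ℕ} {a : Fin n → R}

omit [IsNoetherianRing R] in
theorem hasRegSeq_of_depth (hd : (n : ℕ∞) ≤ _root_.LocCoh.depth R R) : HasRegSeq (R := R) n R := by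
  rcases Nat.eq_zero_or_pos n with rfl | hn
  · trivial
  rw [_root_.LocCoh.depth, _root_.LocCoh.idealDepth, if_neg (by
    rw [smul_eq_mul, Ideal.mul_top]; exact (maximalIdeal.isMaximal R).ne_top)] at hd
  by_contra hcon
  have hle : ⨆ (rs : List R) (_ : RingTheory.Sequence.IsWeaklyRegular R rs ∧ ∀ r ∈ rs, r ∈ maximalIdeal R),
      (rs.length : ℕ∞) ≤ ((n - 1 : ℕ) : ℕ∞) := by
    refine iSup₂_le fun rs hrs => Nat.cast_le.2 ?_
    by_contra hlt
    exact hcon (hasRegSeq_of_le (k := n) (l := rs.length) (by omega)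
      (hasRegSeq_of_isWeaklyRegular rs R hrs.1 hrs.2))
  have := hd.trans hle
  rw [Nat.cast_le] at this
  omega

noncomputable def quotSMulTopQuotient (J : Ideal R) (x : R) :
    QuotSMulTop x (R ⧸ J) ≃ₗ[R] R ⧸ (J ⊔ Ideal.span {x}) :=
  have h : (x • (⊤ : Submodule R (R ⧸ J))) = Submodule.map (Submodule.mkQ J) (Ideal.span {x} : Submodule R R) := by
    have e : (Ideal.span {x} : Submodule R R) = x • (⊤ : Submodule R R) := by
      rw [← Submodule.ideal_span_singleton_smul, smul_eq_mul, Ideal.mul_top]
    rw [e, Submodule.map_pointwise_smul, Submodule.map_top, Submodule.range_mkQ]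
  (Submodule.quotEquivOfEq _ _ h).trans (Submodule.quotientQuotientEquivQuotientSup _ _)

omit [IsNoetherianRing R] [IsLocalRing R] in
theorem le_of_mem_associatedPrimes_quotient {J p : Ideal R}
    (hp : p ∈ associatedPrimes R (R ⧸ J)) : J ≤ p := by
  have h := IsAssociatedPrime.annihilator_le (AssociatedPrimes.mem_iff.1 hp)
  rwa [Submodule.annihilator_top, Ideal.annihilator_quotient] at h

theorem isSMulRegular_quotient_of_hasRegSeq (h : IsSop a) (T : Finset (Fin n)) (i : Fin n)
    (hi : i ∉ T) (hreg : HasRegSeq (R := R) (n - T.card) (R ⧸ Ideal.span (a '' (T : Set (Fin n))))) :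
    IsSMulRegular (R ⧸ Ideal.span (a '' (T : Set (Fin n)))) (a i) := by
  classical
  refine isSMulRegular_of_forall fun p hp hip => ?_
  have hle := le_of_mem_associatedPrimes_quotient hp
  have hpp : p.IsPrime := IsAssociatedPrime.isPrime hp
  let S : Finset R := ((Finset.univ \ insert i T).image a)
  have hcard : S.card < n - T.card := by
    refine lt_of_le_of_lt Finset.card_image_le ?_
    rw [Finset.card_univ_sdiff, Fintype.card_fin, Finset.card_insert_of_notMem hi]
    have : T.card < n := by
      have := Finset.card_lt_univ_of_notMem hi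
      rwa [Fintype.card_fin] at this
    omega
  have hrad : maximalIdeal R ≤ (p ⊔ Ideal.span (S : Set R)).radical := by
    rw [← show (Ideal.span (Set.range a)).radical = maximalIdeal R from h]
    refine Ideal.radical_mono (Ideal.span_le.2 ?_)
    rintro _ ⟨j, rfl⟩
    by_cases hj : j ∈ insert i T
    · rcases Finset.mem_insert.1 hj with rfl | hjT
      · exact Ideal.mem_sup_left hip
      · exact Ideal.mem_sup_left (hle (Ideal.subset_span ⟨j, hjT, rfl⟩))
    · exact Ideal.mem_sup_right (Ideal.subset_span (Finset.mem_coe.2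
        (Finset.mem_image_of_mem a (Finset.mem_sdiff.2 ⟨Finset.mem_univ j, hj⟩))))
  have h1 := ringKrullDim_quotient_le_card p hpp.ne_top S hrad (by
    intro x hx
    obtain ⟨j, -, rfl⟩ := Finset.mem_image.1 (Finset.mem_coe.1 hx)
    exact h.mem j)
  have h2 := (le_ringKrullDim_quotient_of_hasRegSeq _ inferInstance hreg p hp).trans h1
  norm_cast at h2
  omega

theorem hasRegSeq_quotient (h : IsSop a) (hR : HasRegSeq (R := R) n R) :
    ∀ T : Finset (Fin n), HasRegSeq (R := R) (n - T.card) (R ⧸ Ideal.span (a '' (T : Set (Fin n)))) := by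
  classical
  intro T
  induction T using Finset.induction_on with
  | empty =>
    rw [Finset.card_empty, Nat.sub_zero]
    exact hasRegSeq_of_linearEquiv n
      (Submodule.quotEquivOfEqBot _ (by simp)).symm hR
  | @insert i T hi ih =>
    have hlt : T.card < n := by
      have := Finset.card_lt_univ_of_notMem hi
      rwa [Fintype.card_fin] at this
    have hreg := isSMulRegular_quotient_of_hasRegSeq h T i hi ih
    rw [Finset.card_insert_of_notMem hi]
    rw [show n - T.card = n - (T.card + 1) + 1 by omega] at ih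
    refine hasRegSeq_of_linearEquiv _ ((quotSMulTopQuotient _ (a i)).trans
      (Submodule.quotEquivOfEq _ _ ?_)) (hasRegSeq_quot _ inferInstance ih (a i) (h.mem i) hreg)
    rw [Finset.coe_insert, Set.image_insert_eq, Ideal.span_insert, sup_comm]

/-- In a Cohen–Macaulay local ring each parameter is regular modulo the others. -/
theorem IsSop.mem_of_mul_mem (h : IsSop a) (hR : HasRegSeq (R := R) n R) (i : Fin n) {r : R}
    (hr : a i * r ∈ omitSpan a i) : r ∈ omitSpan a i := by
  classical
  have heq : omitSpan a i = Ideal.span (a '' ((Finset.univ.erase i : Finset (Fin n)) : Set (Fin n))) := by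
    rw [omitSpan]; congr 2; ext j; simp
  have hreg := isSMulRegular_quotient_of_hasRegSeq h (Finset.univ.erase i) i
    (Finset.notMem_erase i _) (hasRegSeq_quotient h hR _)
  rw [heq] at hr ⊢
  rw [← Ideal.Quotient.eq_zero_iff_mem]
  refine hreg.right_eq_zero_of_smul ?_
  exact Ideal.Quotient.eq_zero_iff_mem.2 hr

end CohenMacaulay

end Groth.Agent.CMSop
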